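import Groth.Agent.S5512
import Groth.Agent.RootBase.TypeRLocal
import Groth.Agent.BorelConj.TypeR
import Groth.Agent.ParStd.LeviChart
import Groth.Agent.RedCartan.Global
import Groth.Agent.Chev.TorusCommMax
import Groth.Agent.RedR1.Gen
import Groth.Agent.S8398
import Groth.Agent.S5570

/-!
# Radicals of reductive subgroups of type (R)
-/

set_option autoImplicit false
set_option linter.style.haveILetI false
set_option linter.unusedSectionVars false
set_option backward.isDefEq.respectTransparency false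
set_option maxHeartbeats 1000000
set_option synthInstance.maxHeartbeats 400000

universe u

open CategoryTheory Limits MonoidalCategory CartesianMonoidalCategory MonObj AlgebraicGeometry
open scoped CategoryTheory.Obj

noncomputable section

namespace Groth.Agent.TypeRRad

variable {S : Scheme.{u}}

/-- A maximal torus of a subgroup of type (R) is a maximal torus of the group. -/
theorem isMaximalTorus_comp {G H T : Over S} [GrpObj G] [GrpObj H] [GrpObj T] (hG : Red.IsReductive G) (k : H ⟶ G)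
    (hk : RedSub.IsTypeR k) (t : T ⟶ H) (ht : Red.IsMaximalTorus t) : Red.IsMaximalTorus (t ≫ k) := by
  obtain ⟨⟨k1, k2⟩, k3, -, hconn, htor⟩ := hk
  haveI := k1; haveI := k2; haveI := k3; haveI := ht.1; haveI := ht.2.1
  haveI : Mono k := Over.mono_of_mono_left k
  refine ⟨inferInstance, mono_comp _ _, ht.2.2.1, fun s T' _ j _ _ f hT' hf => ?_⟩
  let F := Over.pullback (Red.geomPt s)
  haveI : PreservesLimitsOfShape WalkingCospan F :=
    (Over.mapPullbackAdj (Red.geomPt s)).rightAdjoint_preservesLimits.preservesLimitsOfShape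
  obtain ⟨-, j1, j2, j3, j4, j5⟩ := RootBase.sub_fibre hG k hconn s
  haveI := j1; haveI := j2; haveI := j3; haveI := j4; haveI := j5
  haveI : Mono (F.map k) := Over.mono_of_mono_left _
  obtain ⟨T₀, _, t₀, ht₀m, ht₀⟩ := htor s
  haveI := ht₀m
  have hF : AGF.IsMaxTorus (F.map t) :=
    ⟨inferInstance, inferInstance, Chev.Borel.isTorus_bc_scheme T _ ht.2.2.1, ht.2.2.2 s⟩
  refine (S5512.isMaxTorus_comp (F.map k) (F.map t) hF t₀ (Chev.Borel.isMaxTorus_of_isMaximalTorus _ ht₀)).2.2.2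
    T' j f hT' ?_
  rw [hf, F.map_comp]

/-- **A central subtorus lies in the radical.** -/
theorem exists_fac_radical {H ZH R Q : Over S} [GrpObj H] [GrpObj ZH] [GrpObj R] [GrpObj Q] (hH : Red.IsReductive H)
    (jz : ZH ⟶ H) (hZH : Red.IsCentre jz) (r : R ⟶ ZH) (hR : Red.IsMaximalTorus r) (hQ : Red.IsTorus Q) (b : Q ⟶ H)
    [IsMonHom b] (hb : ∀ (X : Over S) (x : X ⟶ Q) (h : X ⟶ H), (x ≫ b) * h = h * (x ≫ b)) :
    ∃ m : Q ⟶ R, m ≫ r ≫ jz = b := by
  haveI := hH.1; haveI := hH.2.1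
  haveI := hZH.1; haveI := hZH.2.1; haveI := hR.1; haveI := hR.2.1
  obtain ⟨z, hz⟩ := (hZH.2.2 Q b).2 fun X x h => by
    rw [Category.comp_id]
    exact hb X x h
  haveI : IsMonHom z := MTSplit.isMonHom_of_comp_mono z jz b hz
  obtain ⟨Z₁, _, z₁, hz₁, hz₁c, -⟩ := RedCartan.exists_centre_of_isReductive hH
  haveI := hz₁c; haveI := hz₁.2.1
  obtain ⟨w, hw⟩ := (hz₁.2.2 ZH jz).2 ((hZH.2.2 ZH jz).1 ⟨𝟙 _, Category.id_comp _⟩)
  obtain ⟨w', hw'⟩ := (hZH.2.2 Z₁ z₁).2 ((hz₁.2.2 Z₁ z₁).1 ⟨𝟙 _, Category.id_comp _⟩)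
  haveI : IsIso w := ⟨w', by rw [← cancel_mono jz, Category.assoc, hw', hw, Category.id_comp],
    by rw [← cancel_mono z₁, Category.assoc, hw, hw', Category.id_comp]⟩
  haveI : IsIso w.left := inferInstanceAs (IsIso ((Over.forget _).map w))
  haveI : IsClosedImmersion jz.left := by rw [← hw, Over.comp_left]; infer_instance
  haveI : LocallyOfFiniteType ZH.hom := by rw [← Over.w jz]; infer_instance
  haveI : QuasiCompact ZH.hom := by rw [← Over.w jz]; infer_instance
  obtain ⟨m, hm⟩ := MTTorus.exists_factor_maximalTorus r hR hQ z fun X a x => by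
    rw [← cancel_mono jz, MonObj.mul_comp, MonObj.mul_comp]
    simpa only [Category.id_comp, Category.comp_id] using
      (hZH.2.2 X ((a ≫ r) ≫ jz)).1 ⟨_, rfl⟩ X (𝟙 X) ((x ≫ z) ≫ jz)
  exact ⟨m, by rw [reassoc_of% hm, hz]⟩

/-- The centraliser of a subtorus is of type (R) and reductive. -/
theorem centralizer_facts {G Q Z : Over S} [GrpObj G] [GrpObj Q] [GrpObj Z] (hG : Red.IsReductive G) (q : Q ⟶ G)
    [IsMonHom q] [Mono q] (hQ : Red.IsTorus Q) (z : Z ⟶ G) (hZ : Red.IsCentralizerOf q z) :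
    RedSub.IsTypeR z ∧ Red.IsReductive Z := by
  haveI := hG.1; haveI := hG.2.1
  obtain ⟨Z₀, _, z₀, hz₀, ⟨⟨-, hi₀⟩, hs₀, hq₀, -, -⟩, hred₀⟩ := Groth.Agent.S5550.result hG q hQ
  haveI := hi₀; haveI := hs₀; haveI := hq₀; haveI := hred₀.1
  obtain ⟨e, he⟩ := S5570.exists_iso_centralizer hZ hz₀
  haveI := hZ.1; haveI := hZ.2.1
  haveI : IsIso e.hom.left := inferInstanceAs (IsIso ((Over.forget _).map e.hom))
  haveI : IsImmersion z.left := by rw [← he, Over.comp_left]; infer_instance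
  haveI : IsAffineHom Z.hom := by rw [← Over.w e.hom]; infer_instance
  haveI : Smooth Z.hom := by rw [← Over.w e.hom]; infer_instance
  have hred : Red.IsReductive Z := ⟨inferInstance, inferInstance, fun s => by
    haveI := (hG.2.2 s).1; haveI := (hG.2.2 s).2.1; haveI := (hG.2.2 s).2.2.1
    exact RedCent.isReductiveOver_centralizer (hG.2.2 s) ((Over.pullback (Red.geomPt s)).map q)
      (Chev.Borel.isTorus_bc_scheme Q _ hQ) _ (Chev.CentBC.isCentralizerOf_bc (Red.geomPt s) q z hZ)⟩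
  refine ⟨⟨⟨inferInstance, inferInstance⟩, inferInstance, inferInstance,
    MTImage.isConnected_fibre_of_geom fun s => (hred.2.2 s).2.2.1, fun s => ?_⟩, hred⟩
  haveI := (hG.2.2 s).1; haveI := (hG.2.2 s).2.1; haveI := (hG.2.2 s).2.2.1
  let F := Over.pullback (Red.geomPt s)
  obtain ⟨T, _, iT, f, hT, hf⟩ := RedCent.exists_maxTorus_containing (F.map q) (Chev.Borel.isTorus_bc_scheme Q _ hQ)
  have hcs := Chev.CentBC.isCentralizerOf_bc (Red.geomPt s) q z hZ
  haveI := hT.1; haveI := hcs.1; haveI := hcs.2.1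
  obtain ⟨t, ht⟩ := (hcs.2.2 T iT).2 fun X x h => by
    rw [← hf, ← Category.assoc h, ← MonObj.mul_comp, ← MonObj.mul_comp, RedR1.mul_comm_torus hT.2.2.1]
  exact ⟨T, inferInstance, t, MTSplit.isMonHom_of_comp_mono t _ iT ht,
    ht ▸ Chev.Borel.isMaximalTorus_of_isMaxTorus iT hT⟩

/-- **Radicals of reductive subgroups of type (R) decrease.** -/
theorem exists_radical_le {G H H' ZH ZH' R R' : Over S} [GrpObj G] [GrpObj H] [GrpObj H'] [GrpObj ZH] [GrpObj ZH']
    [GrpObj R] [GrpObj R'] (hG : Red.IsReductive G) (i : H ⟶ G) (hi : RedSub.IsTypeR i) (hH : Red.IsReductive H)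
    (i' : H' ⟶ G) (hi' : RedSub.IsTypeR i') (hH' : Red.IsReductive H') (k : H ⟶ H') (hk : k ≫ i' = i)
    (jz : ZH ⟶ H) (hZH : Red.IsCentre jz) (r : R ⟶ ZH) (hR : Red.IsMaximalTorus r)
    (jz' : ZH' ⟶ H') (hZH' : Red.IsCentre jz') (r' : R' ⟶ ZH') (hR' : Red.IsMaximalTorus r') :
    ∃ m : R' ⟶ R, m ≫ r ≫ jz ≫ i = r' ≫ jz' ≫ i' := by
  haveI := hi.1.1; haveI := hi'.1.1; haveI := hi'.1.2
  haveI := hH.1; haveI := hH.2.1; haveI := hH'.1; haveI := hH'.2.1
  haveI : Mono i' := Over.mono_of_mono_left i'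
  haveI : IsMonHom k := MTSplit.isMonHom_of_comp_mono k i' i hk
  have hkR : RedSub.IsTypeR k := (S5512.result hG i' hi' k).2 (hk ▸ hi)
  haveI := hkR.1.2
  haveI := hZH.1; haveI := hZH.2.1; haveI := hR.1; haveI := hR.2.1
  haveI := hZH'.1; haveI := hR'.1
  obtain ⟨c, hcd⟩ : ∃ c : R' ⟶ H', c = r' ≫ jz' := ⟨_, rfl⟩
  haveI : IsMonHom c := hcd ▸ inferInstance
  have hc : ∀ (X : Over S) (a : X ⟶ R') (x : X ⟶ H'), (a ≫ c) * x = x * (a ≫ c) := fun X a x => by
    rw [hcd, ← Category.assoc]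
    simpa only [Category.id_comp, Category.comp_id] using (hZH'.2.2 X ((a ≫ r') ≫ jz')).1 ⟨_, rfl⟩ X (𝟙 X) x
  choose U f hf hs T hT t rk ht hsp using ParStd.exists_split_torus hH
  haveI := hf
  haveI : Mono k.left := inferInstance
  obtain ⟨b, hb⟩ := RootBase.exists_fac_etale c k U f hs fun s => by
    let F := Over.pullback (f s)
    letI := hT s
    haveI := (ht s).1; haveI := (ht s).2.1
    have hH'f := DynPar.isReductive_bc (f s) hH'
    haveI := hH'f.1; haveI := hH'f.2.1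
    have hm := isMaximalTorus_comp hH'f (F.map k) (BorelConj.isTypeR_bc k hkR (f s)) (t s) (ht s)
    haveI : LocallyOfFiniteType (F.obj H').hom := inferInstanceAs (LocallyOfFiniteType (pullback.snd H'.hom (f s)))
    haveI : QuasiCompact (F.obj H').hom := inferInstanceAs (QuasiCompact (pullback.snd H'.hom (f s)))
    obtain ⟨y, hy⟩ := MTTorus.exists_factor_maximalTorus (t s ≫ F.map k) hm
      (Chev.Borel.isTorus_bc_scheme R' (f s) hR'.2.2.1) (F.map c) fun X a x =>
      (S8398.central_bc (f s) c hc X x _).symm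
    exact ⟨y ≫ t s, by rw [Category.assoc, hy]⟩
  haveI : Mono k := Over.mono_of_mono_left k
  haveI : IsMonHom b := MTSplit.isMonHom_of_comp_mono b k c hb
  obtain ⟨m, hm⟩ := exists_fac_radical hH jz hZH r hR hR'.2.2.1 b fun X x h => by
    rw [← cancel_mono k, MonObj.mul_comp, MonObj.mul_comp, Category.assoc, hb]
    exact hc X x (h ≫ k)
  refine ⟨m, ?_⟩
  rw [reassoc_of% hm, ← hk, reassoc_of% hb, hcd, Category.assoc]

end Groth.Agent.TypeRRad
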